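import Mathlib
import Cfsg.Prelude.Def_SporadicB

/-!
# Classes of transpositions in transitive permutation groups

A conjugacy class of a group acting transitively, with the centraliser of a member being a point
stabiliser, is labelled by the points; a few computations give the 3-transposition property.
-/

set_option autoImplicit false

namespace Cfsg.Agent.Lib.FiKit

open MulAction
open scoped commutatorElement

section class_of_points

variable {G X : Type*} [Group G] [MulAction G X] [hT : IsPretransitive G X] {t : G} {p : X}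

/-- The member of the class labelled by a point. -/
noncomputable def tauF (t : G) (p x : X) : G :=
  (exists_smul_eq G p x).choose * t * ((exists_smul_eq G p x).choose)⁻¹

theorem tau_smul (hC : ∀ g : G, g • p = p ↔ g * t = t * g) (g : G) : tauF t p (g • p) = g * t * g⁻¹ := by
  unfold tauF
  set h := (exists_smul_eq G p (g • p)).choose with hh
  have h1 : h • p = g • p := (exists_smul_eq G p (g • p)).choose_spec
  have h2 : (g⁻¹ * h) • p = p := by rw [mul_smul, h1, inv_smul_smul]
  have h3 := (hC _).1 h2
  have h4 : h * t = g * t * g⁻¹ * h := by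
    calc h * t = g * ((g⁻¹ * h) * t) := by group
      _ = g * (t * (g⁻¹ * h)) := by rw [h3]
      _ = g * t * g⁻¹ * h := by group
  rw [h4]
  group

theorem tau_self (hC : ∀ g : G, g • p = p ↔ g * t = t * g) : tauF t p p = t := by
  have := tau_smul hC (1 : G)
  simpa using this

theorem conj_tau (hC : ∀ g : G, g • p = p ↔ g * t = t * g) (h : G) (x : X) :
    h * tauF t p x * h⁻¹ = tauF t p (h • x) := by
  obtain ⟨g, rfl⟩ := exists_smul_eq G p x
  rw [tau_smul hC, ← mul_smul, tau_smul hC]
  group

theorem tau_inj (hC : ∀ g : G, g • p = p ↔ g * t = t * g) : Function.Injective (tauF t p) := by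
  intro x y hxy
  obtain ⟨g, rfl⟩ := exists_smul_eq G p x
  obtain ⟨g', rfl⟩ := exists_smul_eq G p y
  rw [tau_smul hC, tau_smul hC] at hxy
  have h1 : (g'⁻¹ * g) * t = t * (g'⁻¹ * g) := by
    calc (g'⁻¹ * g) * t = g'⁻¹ * (g * t * g⁻¹) * g := by group
      _ = g'⁻¹ * (g' * t * g'⁻¹) * g := by rw [hxy]
      _ = t * (g'⁻¹ * g) := by group
  have h2 := (hC _).2 h1
  rw [mul_smul] at h2
  rw [← inv_smul_eq_iff.1 h2]

theorem conjugates_eq (hC : ∀ g : G, g • p = p ↔ g * t = t * g) :
    conjugatesOf t = Set.range (tauF t p) := by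
  ext y
  constructor
  · intro hy
    obtain ⟨g, rfl⟩ := isConj_iff.1 hy
    exact ⟨g • p, tau_smul hC g⟩
  · rintro ⟨x, rfl⟩
    obtain ⟨g, rfl⟩ := exists_smul_eq G p x
    rw [tau_smul hC]
    exact isConj_iff.2 ⟨g, rfl⟩

theorem card_conjugates (hC : ∀ g : G, g • p = p ↔ g * t = t * g) :
    Nat.card (conjugatesOf t) = Nat.card X := by
  rw [conjugates_eq hC]
  exact Nat.card_range_of_injective (tau_inj hC)

/-- The 3-transposition property from two computations. -/
theorem threeSet_of (hC : ∀ g : G, g • p = p ↔ g * t = t * g) (ht : orderOf t = 2)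
    {q₁ q₂ : X} (hcases : ∀ x : X, x = p ∨ (∃ h : G, h • p = p ∧ h • x = q₁) ∨ (∃ h : G, h • p = p ∧ h • x = q₂))
    (h1 : (t * tauF t p q₁) ^ 2 = 1) (h2 : (t * tauF t p q₂) ^ 3 = 1) :
    Cfsg.IsThreeTranspositionSet (conjugatesOf t) := by
  constructor
  · intro d hd
    obtain ⟨g, rfl⟩ := isConj_iff.1 hd
    rw [show g * t * g⁻¹ = (MulAut.conj g) t from rfl, MulEquiv.orderOf_eq]
    exact ht
  · intro d hd e he
    rw [conjugates_eq hC] at hd he
    obtain ⟨x, rfl⟩ := hd
    obtain ⟨y, rfl⟩ := he
    obtain ⟨g, hg⟩ := exists_smul_eq G x p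
    have e1 : ∀ k : ℕ, (tauF t p x * tauF t p y) ^ k = 1 ↔ (t * tauF t p (g • y)) ^ k = 1 := by
      intro k
      have h3 : g * (tauF t p x * tauF t p y) * g⁻¹ = t * tauF t p (g • y) := by
        have h4 : g * tauF t p x * g⁻¹ = t := by rw [conj_tau hC, hg, tau_self hC]
        have h5 : g * tauF t p y * g⁻¹ = tauF t p (g • y) := conj_tau hC g y
        calc g * (tauF t p x * tauF t p y) * g⁻¹ = (g * tauF t p x * g⁻¹) * (g * tauF t p y * g⁻¹) := by group
          _ = _ := by rw [h4, h5]
      rw [← h3, conj_pow]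
      constructor
      · intro h
        rw [h]
        group
      · intro h
        have := congrArg (fun z => g⁻¹ * z * g) h
        simpa [mul_assoc] using this
    have hconj : ∀ (h : G) (z : X) (k : ℕ), h • p = p → ((t * tauF t p z) ^ k = 1 ↔ (t * tauF t p (h • z)) ^ k = 1) := by
      intro h z k hh
      have h3 : h * (t * tauF t p z) * h⁻¹ = t * tauF t p (h • z) := by
        have h4 : h * t * h⁻¹ = t := by
          rw [(hC h).1 hh]
          group
        have h5 : h * tauF t p z * h⁻¹ = tauF t p (h • z) := conj_tau hC h z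
        calc h * (t * tauF t p z) * h⁻¹ = (h * t * h⁻¹) * (h * tauF t p z * h⁻¹) := by group
          _ = _ := by rw [h4, h5]
      rw [← h3, conj_pow]
      constructor
      · intro h'
        rw [h']
        group
      · intro h'
        have := congrArg (fun z => h⁻¹ * z * h) h'
        simpa [mul_assoc] using this
    rcases hcases (g • y) with h0 | ⟨h, hh, hq⟩ | ⟨h, hh, hq⟩
    · left
      have h5 : t * t = 1 := by
        rw [← pow_two, ← ht]
        exact pow_orderOf_eq_one t
      rw [e1, h0, tau_self hC, h5]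
      simp
    · left
      rw [e1, hconj h _ _ hh, hq]
      exact h1
    · right
      rw [e1, hconj h _ _ hh, hq]
      exact h2

/-- The class generates a simple group. -/
theorem closure_conjugates [IsSimpleGroup G] (ht : t ≠ 1) : Subgroup.closure (conjugatesOf t) = ⊤ := by
  have h1 : Subgroup.closure (conjugatesOf t) = Subgroup.normalClosure {t} := by
    unfold Subgroup.normalClosure
    congr 1
    ext y
    rw [Group.mem_conjugatesOfSet_iff]
    simp [conjugatesOf]
  rw [h1]
  rcases (Subgroup.normalClosure_normal (s := ({t} : Set G))).eq_bot_or_eq_top with h | h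
  · exfalso
    apply ht
    have h2 : t ∈ Subgroup.normalClosure ({t} : Set G) := Subgroup.subset_normalClosure (Set.mem_singleton t)
    rw [h] at h2
    exact Subgroup.mem_bot.1 h2
  · exact h

end class_of_points

/-- Non-split double covers: a central involution in the commutator subgroup. -/
theorem nonsplit_of {C Q : Type*} [Group C] [Group Q] (ρ : C →* Q) (hρ : Function.Surjective ρ) {z : C}
    (hz1 : z ≠ 1) (hzc : ∀ x, x * z = z * x) (hker : ∀ x, ρ x = 1 ↔ x = 1 ∨ x = z)
    (hQ : ∀ y : Q, (∀ y', y * y' = y' * y) → y = 1) (hw : z ∈ commutator C) :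
    Cfsg.IsNonsplitDoubleCover C Q := by
  have hcen : Subgroup.center C = ρ.ker := by
    ext x
    rw [Subgroup.mem_center_iff, MonoidHom.mem_ker]
    constructor
    · intro hx
      apply hQ
      intro y'
      obtain ⟨a, rfl⟩ := hρ y'
      rw [← map_mul, ← map_mul, hx a]
    · intro hx g
      rcases (hker x).1 hx with rfl | rfl
      · simp
      · exact hzc g
  refine ⟨?_, ⟨(QuotientGroup.quotientMulEquivOfEq hcen).trans (QuotientGroup.quotientKerEquivOfSurjective ρ hρ)⟩, ?_⟩
  · have h1 : ((Subgroup.center C : Subgroup C) : Set C) = {1, z} := by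
      ext x
      rw [hcen]
      show ρ x = 1 ↔ _
      rw [hker]
      simp
    have h2 : Nat.card (Subgroup.center C) = Set.ncard ((Subgroup.center C : Subgroup C) : Set C) := by
      rw [← Nat.card_coe_set_eq]
      rfl
    rw [h2, h1, Set.ncard_pair hz1.symm]
  · intro L hL
    have hle : commutator C ≤ L := by
      rw [commutator_def, Subgroup.commutator_le]
      intro a _ b _
      obtain ⟨⟨⟨c, hc⟩, ⟨l, hl⟩⟩, h1⟩ := hL.2 a
      obtain ⟨⟨⟨c', hc'⟩, ⟨l', hl'⟩⟩, h2⟩ := hL.2 b
      simp only at h1 h2
      replace hc := Subgroup.mem_center_iff.1 hc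
      replace hc' := Subgroup.mem_center_iff.1 hc'
      have h3 : ⁅a, b⁆ = ⁅l, l'⁆ := by
        rw [← h1, ← h2, commutatorElement_def, commutatorElement_def]
        calc c * l * (c' * l') * (c * l)⁻¹ * (c' * l')⁻¹
            = c * (l * (c' * l') * l⁻¹) * c⁻¹ * (c' * l')⁻¹ := by group
          _ = (l * (c' * l') * l⁻¹) * (c' * l')⁻¹ := by
              rw [← hc (l * (c' * l') * l⁻¹)]
              group
          _ = (l * c') * l' * l⁻¹ * l'⁻¹ * c'⁻¹ := by group
          _ = (c' * l) * l' * l⁻¹ * l'⁻¹ * c'⁻¹ := by rw [hc' l]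
          _ = c' * (l * l' * l⁻¹ * l'⁻¹) * c'⁻¹ := by group
          _ = l * l' * l⁻¹ * l'⁻¹ := by
              rw [← hc' (l * l' * l⁻¹ * l'⁻¹)]
              group
      rw [h3, commutatorElement_def]
      exact L.mul_mem (L.mul_mem (L.mul_mem hl hl') (L.inv_mem hl)) (L.inv_mem hl')
    have h2 : z ∈ Subgroup.center C := by
      rw [Subgroup.mem_center_iff]
      exact hzc
    have h3 := hL.disjoint
    exact hz1 (Subgroup.disjoint_def.1 h3 h2 (hle hw))

end Cfsg.Agent.Lib.FiKit
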